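import Mathlib
import Cfsg.Agent.Lib.SSC3.Grp
import Cfsg.Agent.Lib.C3.Cf

/-!
# The characters of a group with strongly self-centralising subgroups of type `(2, 4, 4)`
-/

set_option autoImplicit false

namespace CfsgLib.SSC3

open Cfsg CfsgLib.Char CfsgLib.CharDeep CfsgLib.Sz ComplexConjugate Finset

variable {G : Type*} [Group G] [Fintype G]

theorem exists_xi {A : Subgroup G} {E : Finset (IrrCharacter G)} {α : G → ℂ} {c : IrrCharacter G → ℤ}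
    (h : Fam A E α c) (e : nIdx A = 2) : ∃ X ∈ E, ∃ ξ ∉ E, ∃ δ : ℤ, (δ = 1 ∨ δ = -1) ∧ ξ ≠ irrOne G ∧
      c ξ = δ ∧ (∀ g, α g = 1 + δ * (ξ : G → ℂ) g - δ * (X : G → ℂ) g) ∧
      ∀ χ, χ ≠ irrOne G → χ ≠ ξ → χ ≠ X → c χ = 0 := by
  classical
  obtain ⟨a, b, n, ha, hb, ha1, a1, b1, hα⟩ := C3.CfA.chars_of h.gen (by rw [h.norm, e]; norm_num)
    (by rw [← irrOne_coe, h.coef, h.c_one]; simp) (h.off 1 one_not_mem_conjUnion)
  let a' : IrrCharacter G := ⟨a, ha⟩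
  let b' : IrrCharacter G := ⟨b, hb⟩
  have hab : (a' : G → ℂ) 1 ≠ (b' : G → ℂ) 1 := by
    change a 1 ≠ b 1
    rw [a1, b1]; simp
  have hab' : a' ≠ b' := fun e => hab (by rw [e])
  have ha' : a' ≠ irrOne G := fun e => ha1 (congrArg Subtype.val e)
  have hb' : b' ≠ irrOne G := fun e => by
    have : b 1 = 1 := congrFun (congrArg Subtype.val e) 1
    rw [b1, ← a1] at this
    exact irr_one_ne_zero ha (by simpa using this)
  have hc : ∀ χ, c χ = (if irrOne G = χ then 1 else 0) + (if a' = χ then 1 else 0) -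
      if b' = χ then 1 else 0 := fun χ => by
    have := h.coef χ
    rw [show α = (irrOne G : G → ℂ) + a' - b' from funext hα, classInner_sub_left, classInner_add_left,
      classInner_irr_irr, classInner_irr_irr, classInner_irr_irr] at this
    apply Int.cast_injective (α := ℂ)
    rw [← this]
    push_cast
    rfl
  have h0 : ∀ χ, χ ≠ irrOne G → χ ≠ a' → χ ≠ b' → c χ = 0 := fun χ h1 h2 h3 => by
    rw [hc, if_neg h1.symm, if_neg h2.symm, if_neg h3.symm]; simp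
  have hn : ¬ (a' ∈ E ∧ b' ∈ E) := fun hh => hab (h.eq_off _ hh.1 _ hh.2 1 one_not_mem_conjUnion)
  obtain ⟨X, hX, hX0⟩ := h.nz
  have hX1 : X ≠ irrOne G := fun e => h.one_notMem (e ▸ hX)
  by_cases hXa : X = a'
  · refine ⟨a', hXa ▸ hX, b', fun hh => hn ⟨hXa ▸ hX, hh⟩, -1, Or.inr rfl, hb', ?_, fun g => ?_,
      fun χ h1 h2 h3 => h0 χ h1 h3 h2⟩
    · rw [hc, if_neg hb'.symm, if_neg hab', if_pos rfl]; simp
    · rw [hα]; simp [a', b']; ring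
  · have hXb : X = b' := by
      by_contra hh
      exact hX0 (h0 X hX1 hXa hh)
    refine ⟨b', hXb ▸ hX, a', fun hh => hn ⟨hh, hXb ▸ hX⟩, 1, Or.inl rfl, ha', ?_, fun g => ?_, h0⟩
    · rw [hc, if_neg ha'.symm, if_neg hab'.symm, if_pos rfl]; simp
    · rw [hα]; simp [a', b']

theorem exists_ival {g : G} (hg : g * g = 1) : ∃ v : IrrCharacter G → ℤ,
    (∀ χ : IrrCharacter G, (χ : G → ℂ) g = v χ) ∧
      ∑ χ, v χ * v χ = Nat.card (Subgroup.centralizer ({g} : Set G)) := by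
  have : ∀ χ : IrrCharacter G, ∃ k : ℤ, (χ : G → ℂ) g = k := fun χ => by
    obtain ⟨a, b, -, h⟩ := exists_char_invol (irr_isCharacter χ) hg
    exact ⟨a - b, by rw [h]; simp⟩
  choose v hv using this
  refine ⟨v, hv, ?_⟩
  have := column_orthogonality_self g
  simp only [hv, map_intCast] at this
  exact_mod_cast this

theorem card_image_le {ι : Type*} [DecidableEq ι] (l : G → ι) (S : Finset (IrrCharacter G))
    (h : ∀ φ : ι → ℂ, (∀ ψ ∈ S, classInner (fun g => φ (l g)) ψ = 0) → ∀ g, φ (l g) = 0) :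
    (univ.image l).card ≤ S.card := by
  classical
  let T : ((univ.image l) → ℂ) →ₗ[ℂ] (S → ℂ) :=
    { toFun := fun φ ψ => classInner (fun g => φ ⟨l g, mem_image_of_mem _ (mem_univ _)⟩) ψ.1
      map_add' := fun φ φ' => funext fun ψ => classInner_add_left _ _ _
      map_smul' := fun c φ => funext fun ψ => classInner_smul_left c _ _ }
  have hT : Function.Injective T := by
    rw [injective_iff_map_eq_zero]
    intro φ hφ
    funext ⟨i, hi⟩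
    obtain ⟨g, -, rfl⟩ := mem_image.1 hi
    have := h (fun i => if hi : i ∈ univ.image l then φ ⟨i, hi⟩ else 0) (fun ψ hψ => by
      simpa [T] using congrFun hφ ⟨ψ, hψ⟩) g
    simpa using this
  simpa using LinearMap.finrank_le_finrank_of_injective hT

/-- The character theoretic data. -/
structure Dat (A₁ A₂ A₃ : Subgroup G) where
  (E₁ E₂ E₃ : Finset (IrrCharacter G))
  (α₁ α₂ α₃ : G → ℂ)
  (c₁ c₂ c₃ : IrrCharacter G → ℤ)
  (X ξ : IrrCharacter G)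
  δ : ℤ
  s₁ : SelfCent A₁
  s₂ : SelfCent A₂
  s₃ : SelfCent A₃
  e₁ : nIdx A₁ = 2
  e₂ : nIdx A₂ = 4
  e₃ : nIdx A₃ = 4
  f₁ : Fam A₁ E₁ α₁ c₁
  f₂ : Fam A₂ E₂ α₂ c₂
  f₃ : Fam A₃ E₃ α₃ c₃
  k₁₂ : (Nat.card A₁).Coprime (Nat.card A₂)
  k₁₃ : (Nat.card A₁).Coprime (Nat.card A₃)
  k₂₃ : (Nat.card A₂).Coprime (Nat.card A₃)
  hX : X ∈ E₁
  hξ : ξ ∉ E₁
  hδ : δ = 1 ∨ δ = -1
  hξ1 : ξ ≠ irrOne G
  cξ : c₁ ξ = δ
  eq : ∀ g, α₁ g = 1 + δ * (ξ : G → ℂ) g - δ * (X : G → ℂ) g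
  zero : ∀ χ, χ ≠ irrOne G → χ ≠ ξ → χ ≠ X → c₁ χ = 0

variable {A₁ A₂ A₃ : Subgroup G}

theorem exists_dat (s₁ : SelfCent A₁) (s₂ : SelfCent A₂) (s₃ : SelfCent A₃) (e₁ : nIdx A₁ = 2)
    (e₂ : nIdx A₂ = 4) (e₃ : nIdx A₃ = 4) (k₁₂ : (Nat.card A₁).Coprime (Nat.card A₂))
    (k₁₃ : (Nat.card A₁).Coprime (Nat.card A₃)) (k₂₃ : (Nat.card A₂).Coprime (Nat.card A₃))
    (n₁ : 5 ≤ Nat.card A₁) (n₂ : 5 < Nat.card A₂) (n₃ : 5 < Nat.card A₃) : Nonempty (Dat A₁ A₂ A₃) := by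
  obtain ⟨E₁, α₁, c₁, f₁⟩ := exists_fam s₁ (by omega)
  obtain ⟨E₂, α₂, c₂, f₂⟩ := exists_fam s₂ (by omega)
  obtain ⟨E₃, α₃, c₃, f₃⟩ := exists_fam s₃ (by omega)
  obtain ⟨X, hX, ξ, hξ, δ, h1, h2, h3, h4, h5⟩ := exists_xi f₁ e₁
  exact ⟨⟨E₁, E₂, E₃, α₁, α₂, α₃, c₁, c₂, c₃, X, ξ, δ, s₁, s₂, s₃, e₁, e₂, e₃, f₁, f₂, f₃, k₁₂, k₁₃,
    k₂₃, hX, hξ, h1, h2, h3, h4, h5⟩⟩

namespace Dat

variable (D : Dat A₁ A₂ A₃)

/-- Exchanging the last two subgroups. -/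
def swap : Dat A₁ A₃ A₂ :=
  ⟨D.E₁, D.E₃, D.E₂, D.α₁, D.α₃, D.α₂, D.c₁, D.c₃, D.c₂, D.X, D.ξ, D.δ, D.s₁, D.s₃, D.s₂, D.e₁, D.e₃,
    D.e₂, D.f₁, D.f₃, D.f₂, D.k₁₃, D.k₁₂, D.k₂₃.symm, D.hX, D.hξ, D.hδ, D.hξ1, D.cξ, D.eq, D.zero⟩

include D in
theorem d₁₂ : Disjoint (conjUnion A₁) (conjUnion A₂) := disjoint_conjUnion D.k₁₂
include D in
theorem d₁₃ : Disjoint (conjUnion A₁) (conjUnion A₃) := disjoint_conjUnion D.k₁₃
include D in
theorem d₂₃ : Disjoint (conjUnion A₂) (conjUnion A₃) := disjoint_conjUnion D.k₂₃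

theorem δ_sq : D.δ * D.δ = 1 := by rcases D.hδ with h | h <;> simp [h]

theorem X_notMem₂ {Y : IrrCharacter G} (hY : Y ∈ D.E₁) : Y ∉ D.E₂ :=
  Finset.disjoint_left.1 (D.f₁.disjoint D.f₂ D.d₁₂) hY

theorem ξ_notMem₂ : D.ξ ∉ D.E₂ := fun h => by
  obtain ⟨Y, hY, hne⟩ := D.f₂.exists_ne D.ξ
  have := D.f₂.coef_eq D.f₁ D.d₁₂.symm h hY
  rw [D.cξ, D.zero Y (fun e => D.f₂.one_notMem (e ▸ hY)) hne fun e => D.X_notMem₂ D.hX (e ▸ hY)] at this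
  rcases D.hδ with h | h <;> omega

theorem ξ_notMem₃ : D.ξ ∉ D.E₃ := D.swap.ξ_notMem₂

theorem X_off {Y : IrrCharacter G} (hY : Y ∈ D.E₁) {g : G} (hg : g ∉ conjUnion A₁) :
    (Y : G → ℂ) g = (D.ξ : G → ℂ) g + D.δ := by
  have h1 := D.eq g
  have h2 : (D.δ : ℂ) * D.δ = 1 := by exact_mod_cast D.δ_sq
  rw [D.f₁.off g hg] at h1
  rw [D.f₁.eq_off Y hY D.X D.hX g hg]
  linear_combination (D.δ : ℂ) * h1 + ((D.ξ : G → ℂ) g - (D.X : G → ℂ) g) * h2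

theorem cξ₂ : D.c₂ D.ξ = D.c₂ D.X - D.δ := by
  obtain ⟨g, hg⟩ := conjUnion_nonempty D.s₂
  have := D.X_off D.hX (Set.disjoint_right.1 D.d₁₂ hg)
  rw [D.f₂.val _ D.ξ_notMem₂ g hg, D.f₂.val _ (D.X_notMem₂ D.hX) g hg] at this
  have : D.c₂ D.X = D.c₂ D.ξ + D.δ := by exact_mod_cast this
  omega

theorem cξ₃ : D.c₃ D.ξ = D.c₃ D.X - D.δ := D.swap.cξ₂

open Classical in
/-- The remaining irreducible characters. -/
noncomputable def R : Finset (IrrCharacter G) := (insert (irrOne G) (insert D.ξ (D.E₁ ∪ D.E₂ ∪ D.E₃)))ᶜ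

theorem mem_R {χ : IrrCharacter G} :
    χ ∈ D.R ↔ χ ≠ irrOne G ∧ χ ≠ D.ξ ∧ χ ∉ D.E₁ ∧ χ ∉ D.E₂ ∧ χ ∉ D.E₃ := by
  simp [R, not_or]

theorem sum_split (f : IrrCharacter G → ℤ) : ∑ χ, f χ = f (irrOne G) + f D.ξ + ∑ χ ∈ D.E₁, f χ +
    ∑ χ ∈ D.E₂, f χ + ∑ χ ∈ D.E₃, f χ + ∑ χ ∈ D.R, f χ := by
  classical
  rw [R, ← sum_add_sum_compl (insert (irrOne G) (insert D.ξ (D.E₁ ∪ D.E₂ ∪ D.E₃))), sum_insert, sum_insert,
    sum_union, sum_union (D.f₁.disjoint D.f₂ D.d₁₂)]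
  · ring_nf
  · exact disjoint_union_left.2 ⟨D.f₁.disjoint D.f₃ D.d₁₃, D.f₂.disjoint D.f₃ D.d₂₃⟩
  · simp [D.hξ, D.ξ_notMem₂, D.ξ_notMem₃]
  · simp [D.hξ1.symm, D.f₁.one_notMem, D.f₂.one_notMem, D.f₃.one_notMem]

theorem sum_E₁ (F : ℤ → ℤ → ℤ) :
    ∑ χ ∈ D.E₁, F (D.c₂ χ) (D.c₃ χ) = D.E₁.card * F (D.c₂ D.X) (D.c₃ D.X) := by
  rw [Finset.sum_congr rfl fun χ hχ => by
    rw [D.f₁.coef_eq D.f₂ D.d₁₂ hχ D.hX, D.f₁.coef_eq D.f₃ D.d₁₃ hχ D.hX], sum_const, nsmul_eq_mul]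

theorem sum_sq₂ : ∑ χ, D.c₂ χ * D.c₂ χ = 5 := by rw [D.f₂.sum_sq, D.e₂]; norm_num

theorem sum_sq₃ : ∑ χ, D.c₃ χ * D.c₃ χ = 5 := D.swap.sum_sq₂

theorem sum_sq₂₃ : ∑ χ, (D.c₂ χ + D.c₃ χ) * (D.c₂ χ + D.c₃ χ) = 10 := by
  have := D.f₂.sum_mul_eq_zero D.f₃ D.d₂₃
  rw [Finset.sum_congr rfl (g := fun χ => D.c₂ χ * D.c₂ χ + D.c₃ χ * D.c₃ χ + 2 * (D.c₂ χ * D.c₃ χ))
    fun _ _ => by ring, sum_add_distrib, sum_add_distrib, ← Finset.mul_sum, this, D.sum_sq₂, D.sum_sq₃]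
  norm_num

theorem c₂X : D.c₂ D.X = 0 ∨ (D.c₂ D.X = D.δ ∧ D.E₁.card ≤ 3) := by
  have h1 := D.sum_sq₂
  obtain ⟨Y, hY, hY0⟩ := D.f₂.nz
  have h2 := single_le_sum (f := fun χ => D.c₂ χ * D.c₂ χ) (fun _ _ => mul_self_nonneg _) hY
  have h3 := sum_nonneg (s := D.E₃) (f := fun χ => D.c₂ χ * D.c₂ χ) fun _ _ => mul_self_nonneg _
  have h4 := sum_nonneg (s := D.R) (f := fun χ => D.c₂ χ * D.c₂ χ) fun _ _ => mul_self_nonneg _
  have h5 := mul_self_pos.2 hY0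
  have h6 : (2 : ℤ) ≤ D.E₁.card := by exact_mod_cast D.f₁.two
  rw [D.sum_split, D.sum_E₁ fun a _ => a * a, D.f₂.c_one, D.cξ₂] at h1
  have h7 : (D.c₂ D.X - D.δ) * (D.c₂ D.X - D.δ) + D.E₁.card * (D.c₂ D.X * D.c₂ D.X) ≤ 3 := by omega
  have h8 : (D.E₁.card : ℤ) ≤ 3 → D.E₁.card ≤ 3 := by omega
  have hδ := D.hδ
  generalize D.c₂ D.X = p at h7 ⊢
  generalize (D.E₁.card : ℤ) = t at h6 h7 h8
  have h9 : -1 ≤ p ∧ p ≤ 1 := by
    constructor <;> nlinarith [mul_self_nonneg (p - D.δ), mul_le_mul_of_nonneg_right h6 (mul_self_nonneg p)]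
  obtain ⟨h9, h10⟩ := h9
  rcases hδ with h | h <;> rw [h] at h7 ⊢ <;> interval_cases p <;> omega

theorem c₃X : D.c₃ D.X = 0 ∨ (D.c₃ D.X = D.δ ∧ D.E₁.card ≤ 3) := D.swap.c₂X

theorem not_both (h : D.c₂ D.X = D.δ) (h' : D.c₃ D.X = D.δ) : False := by
  have h1 := D.sum_sq₂₃
  have h2 := fun s : Finset (IrrCharacter G) => sum_nonneg (s := s)
    (f := fun χ => (D.c₂ χ + D.c₃ χ) * (D.c₂ χ + D.c₃ χ)) fun _ _ => mul_self_nonneg _
  have h6 : (2 : ℤ) ≤ D.E₁.card := by exact_mod_cast D.f₁.two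
  rw [D.sum_split, D.sum_E₁ fun a b => (a + b) * (a + b), D.f₂.c_one, D.f₃.c_one, D.cξ₂, D.cξ₃, h, h'] at h1
  have := D.δ_sq
  nlinarith [h2 D.E₂, h2 D.E₃, h2 D.R]

theorem two_le_Q {a b : ℤ} (h : a ≠ 0 ∨ b ≠ 0) : 2 ≤ a * a + b * b + (a + b) * (a + b) := by
  by_cases ha : a = 0
  · have := mul_self_pos.2 (h.resolve_left fun h' => h' ha)
    rw [ha]; nlinarith
  · by_cases hb : b = 0
    · have := mul_self_pos.2 ha
      rw [hb]; nlinarith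
    · nlinarith [mul_self_pos.2 ha, mul_self_pos.2 hb, mul_self_nonneg (a + b)]

open Classical in
theorem card_H (h : D.c₂ D.X = 0) (h' : D.c₃ D.X = 0) :
    (D.R.filter fun χ => ¬ (D.c₂ χ = 0 ∧ D.c₃ χ = 0)).card ≤ 2 := by
  let Q : IrrCharacter G → ℤ := fun χ =>
    D.c₂ χ * D.c₂ χ + D.c₃ χ * D.c₃ χ + (D.c₂ χ + D.c₃ χ) * (D.c₂ χ + D.c₃ χ)
  have hQ : ∀ χ, 0 ≤ Q χ := fun χ =>
    add_nonneg (add_nonneg (mul_self_nonneg _) (mul_self_nonneg _)) (mul_self_nonneg _)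
  have h1 : ∑ χ, Q χ = 20 := by
    rw [sum_add_distrib, sum_add_distrib, D.sum_sq₂, D.sum_sq₃, D.sum_sq₂₃]; norm_num
  obtain ⟨Y, hY, hY0⟩ := D.f₂.nz
  obtain ⟨Z, hZ, hZ0⟩ := D.f₃.nz
  have h2 := (two_le_Q (Or.inl hY0)).trans (single_le_sum (f := Q) (fun _ _ => hQ _) hY)
  have h3 := (two_le_Q (Or.inr hZ0)).trans (single_le_sum (f := Q) (fun _ _ => hQ _) hZ)
  have h4 := sum_nonneg (s := D.E₁) fun χ _ => hQ χ
  have h5 : Q (irrOne G) = 6 := by simp only [Q, D.f₂.c_one, D.f₃.c_one]; norm_num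
  have h6 : Q D.ξ = 6 := by
    simp only [Q, D.cξ₂, D.cξ₃, h, h']
    linear_combination 6 * D.δ_sq
  have h7 := (card_nsmul_le_sum (D.R.filter fun χ => ¬ (D.c₂ χ = 0 ∧ D.c₃ χ = 0)) Q 2
    fun χ hχ => two_le_Q (not_and_or.1 (mem_filter.1 hχ).2)).trans
    (sum_le_sum_of_subset_of_nonneg (f := Q) (filter_subset _ _) fun χ _ _ => hQ χ)
  rw [D.sum_split] at h1
  rw [nsmul_eq_mul] at h7
  omega

theorem sq_le {g : G} (hg : g * g = 1) (hg' : g ∉ conjUnion A₁) : ∃ v : IrrCharacter G → ℤ,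
    (∀ χ : IrrCharacter G, (χ : G → ℂ) g = v χ) ∧ 1 + v D.ξ ^ 2 + D.E₁.card * (v D.ξ + D.δ) ^ 2 +
      ∑ χ ∈ D.R, v χ * v χ ≤ Nat.card (Subgroup.centralizer ({g} : Set G)) := by
  obtain ⟨v, hv, hs⟩ := exists_ival hg
  refine ⟨v, hv, ?_⟩
  have h1 : v (irrOne G) = 1 := Int.cast_injective (α := ℂ) (by rw [← hv, irrOne_apply, Int.cast_one])
  have h2 : ∀ χ ∈ D.E₁, v χ * v χ = (v D.ξ + D.δ) ^ 2 := fun χ hχ => by
    have := D.X_off hχ hg'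
    rw [hv, hv] at this
    have : v χ = v D.ξ + D.δ := by exact_mod_cast this
    rw [this, pow_two]
  rw [D.sum_split, h1, Finset.sum_congr rfl h2, sum_const, nsmul_eq_mul] at hs
  have h3 := fun s : Finset (IrrCharacter G) => sum_nonneg (s := s)
    (f := fun χ => v χ * v χ) fun _ _ => mul_self_nonneg _
  linarith [h3 D.E₂, h3 D.E₃]

/-- The number of classes outside the three subgroups. -/
theorem card_le (O : Finset ℕ) (hO : ∀ k ∈ O, (∃ g : G, orderOf g = k) ∧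
    k.Coprime (Nat.card A₁ * Nat.card A₂ * Nat.card A₃)) : O.card ≤ D.R.card + 2 := by
  classical
  let l : G → ℕ ⊕ Fin 3 := fun g => if g ∈ conjUnion A₁ then .inr 0 else if g ∈ conjUnion A₂ then .inr 1
    else if g ∈ conjUnion A₃ then .inr 2 else .inl (orderOf g)
  obtain ⟨Y, hY, -⟩ := D.f₂.nz
  obtain ⟨Z, hZ, -⟩ := D.f₃.nz
  have l₁ : ∀ g ∈ conjUnion A₁, l g = .inr 0 := fun g hg => if_pos hg
  have l₂ : ∀ g ∈ conjUnion A₂, l g = .inr 1 := fun g hg => by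
    simp only [l, if_neg (Set.disjoint_right.1 D.d₁₂ hg), if_pos hg]
  have l₃ : ∀ g ∈ conjUnion A₃, l g = .inr 2 := fun g hg => by
    simp only [l, if_neg (Set.disjoint_right.1 D.d₁₃ hg), if_neg (Set.disjoint_right.1 D.d₂₃ hg), if_pos hg]
  have h1 := card_image_le l (insert (irrOne G) (insert D.ξ (insert D.X (insert Y (insert Z D.R)))))
    fun φ hφ => by
      have hcf : IsClassFunction G fun g => φ (l g) := fun g h => by
        simp only [l, conj_mem_conjUnion, show orderOf (h * g * h⁻¹) = orderOf g from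
          (MulAut.conj h).orderOf_eq g]
      refine congrFun (classFun_eq_zero_of_inner hcf fun χ hχ => ?_)
      by_cases h : (⟨χ, hχ⟩ : IrrCharacter G) ∈ D.R
      · exact hφ ⟨χ, hχ⟩ (by simp [h])
      rw [D.mem_R] at h
      simp only [not_and_or, not_not] at h
      rcases h with h | h | h | h | h
      · exact hφ ⟨χ, hχ⟩ (by simp [h])
      · exact hφ ⟨χ, hχ⟩ (by simp [h])
      · exact (D.f₁.inner_eq _ h _ D.hX _ hcf _ fun g hg => congrArg φ (l₁ g hg)).trans (hφ _ (by simp))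
      · exact (D.f₂.inner_eq _ h _ hY _ hcf _ fun g hg => congrArg φ (l₂ g hg)).trans (hφ _ (by simp))
      · exact (D.f₃.inner_eq _ h _ hZ _ hcf _ fun g hg => congrArg φ (l₃ g hg)).trans (hφ _ (by simp))
  have h2 : O.disjSum (univ : Finset (Fin 3)) ⊆ univ.image l := by
    rintro (k | i) hk
    · obtain ⟨⟨g, rfl⟩, h⟩ := hO k (by simpa using hk)
      rw [Nat.coprime_mul_iff_right, Nat.coprime_mul_iff_right] at h
      refine mem_image.2 ⟨g, mem_univ _, ?_⟩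
      simp only [l, if_neg fun e => D.s₁.mem_conjUnion_iff.1 e h.1.1,
        if_neg fun e => D.s₂.mem_conjUnion_iff.1 e h.1.2, if_neg fun e => D.s₃.mem_conjUnion_iff.1 e h.2]
    · obtain ⟨a, ha⟩ := conjUnion_nonempty D.s₁
      obtain ⟨b, hb⟩ := conjUnion_nonempty D.s₂
      obtain ⟨c, hc⟩ := conjUnion_nonempty D.s₃
      fin_cases i
      exacts [mem_image.2 ⟨a, mem_univ _, l₁ a ha⟩, mem_image.2 ⟨b, mem_univ _, l₂ b hb⟩,
        mem_image.2 ⟨c, mem_univ _, l₃ c hc⟩]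
  have h3 := (card_le_card h2).trans h1
  rw [card_disjSum, card_univ, Fintype.card_fin] at h3
  have := card_insert_le (irrOne G) (insert D.ξ (insert D.X (insert Y (insert Z D.R))))
  have := card_insert_le D.ξ (insert D.X (insert Y (insert Z D.R)))
  have := card_insert_le D.X (insert Y (insert Z D.R))
  have := card_insert_le Y (insert Z D.R)
  have := card_insert_le Z D.R
  omega

end Dat

end CfsgLib.SSC3
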