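import Mathlib
import Cfsg.Agent.Lib.SSC3.Dat
import Cfsg.Agent.Lib.SSC3.Arith
import Cfsg.Agent.Lib.Char.DefectZero
import Cfsg.Agent.Lib.Char.ClassCount

/-!
# The order of a simple group with strongly self-centralising subgroups of type `(2, 4, 4)`
-/

set_option autoImplicit false

namespace CfsgLib.SSC3

open Cfsg CfsgLib.Char CfsgLib.CharDeep CfsgLib.Sz ComplexConjugate Finset

variable {G : Type*} [Group G] [Fintype G] {A₁ A₂ A₃ : Subgroup G}

theorem exists_central_invol (h : 2 ∣ Nat.card G) :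
    ∃ t : G, t * t = 1 ∧ t ≠ 1 ∧ Odd (Subgroup.centralizer ({t} : Set G)).index := by
  have : Fact (Nat.Prime 2) := ⟨Nat.prime_two⟩
  obtain ⟨P⟩ : Nonempty (Sylow 2 G) := inferInstance
  have : Nontrivial P := (P : Subgroup G).nontrivial_iff_ne_bot.2 (P.ne_bot_of_dvd_card h)
  have := P.isPGroup'.center_nontrivial
  obtain ⟨n, hn0, hn⟩ := (P.isPGroup'.to_subgroup (Subgroup.center P)).nontrivial_iff_card.1 this
  obtain ⟨z, hz⟩ := exists_prime_orderOf_dvd_card' (G := Subgroup.center P) 2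
    (hn ▸ dvd_pow_self 2 hn0.ne')
  obtain ⟨h1, h2⟩ := orderOf_eq_two_iff.1 (show orderOf ((z : P) : G) = 2 by
    rw [Subgroup.orderOf_coe, Subgroup.orderOf_coe, hz])
  refine ⟨_, h1, h2, Nat.not_even_iff_odd.1 fun e => P.not_dvd_index ((even_iff_two_dvd.1 e).trans
    (Subgroup.index_dvd_of_le fun x hx => Subgroup.mem_centralizer_singleton_iff.2 ?_))⟩
  exact congrArg Subtype.val (Subgroup.mem_center_iff.1 z.2 ⟨x, hx⟩)

theorem eq_zero_of_odd {χ : G → ℂ} (hχ : IsIrrCharacter G χ) {d c τ : ℤ} (hd : χ 1 = d) (hc : Odd c)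
    (h : (Nat.card G : ℤ) = d * c) {t : G} (ht : t * t = 1) (ht1 : t ≠ 1) (hτ : χ t = τ) : τ = 0 := by
  obtain ⟨n, -, hn⟩ := exists_irr_one_eq_nat hχ
  have e : d = n := by exact_mod_cast hd.symm.trans hn
  have h' : Nat.card G = n * c.natAbs := by
    have := congrArg Int.natAbs h
    rwa [Int.natAbs_mul, e, Int.natAbs_natCast, Int.natAbs_natCast] at this
  have h1 := Nat.ordProj_dvd (Nat.card G) 2
  have := irr_eq_zero_of_defect_zero hχ Nat.prime_two h1
    (Nat.pow_succ_factorization_not_dvd Nat.card_pos.ne' Nat.prime_two) hn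
    ((Nat.Coprime.pow_left _ (Nat.coprime_two_left.2 (Int.natAbs_odd.2 hc))).dvd_of_dvd_mul_right
      (h' ▸ h1)) (x := t) (by rw [orderOf_eq_two_iff.2 ⟨ht, ht1⟩])
  exact_mod_cast hτ.symm.trans this

theorem lt_deg [IsSimpleGroup G] {χ : IrrCharacter G} (h1 : χ ≠ irrOne G) {t : G} (ht : t * t = 1)
    (ht1 : t ≠ 1) {d τ : ℤ} (hd : (χ : G → ℂ) 1 = d) (hτ : (χ : G → ℂ) t = τ) : τ < d := by
  obtain ⟨a, b, e1, e2⟩ := exists_char_invol (irr_isCharacter χ) ht
  have hb : b ≠ 0 := by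
    rintro rfl
    have : t ∈ charKer (χ : G → ℂ) := (mem_charKer (irr_isCharacter χ)).2 (by rw [e1, e2]; simp)
    rw [charKer_eq_bot_of_simple χ.2 fun e => h1 (Subtype.ext e)] at this
    exact ht1 this
  have e3 : d = a + b := by exact_mod_cast hd.symm.trans e1
  have e4 : τ = a - b := by exact_mod_cast hτ.symm.trans e2
  omega

theorem deg_pos {χ : IrrCharacter G} {d : ℤ} (hd : (χ : G → ℂ) 1 = d) : 0 < d ∧ d ∣ Nat.card G := by
  obtain ⟨n, h0, h1, hn⟩ := exists_irr_degree χ.2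
  have e : d = n := by exact_mod_cast hd.symm.trans hn
  rw [e]
  exact ⟨by exact_mod_cast h0, by exact_mod_cast h1⟩

theorem sum_pn_conjUnion {A : Subgroup G} (hA : SelfCent A) {t : G} {s : ℕ}
    (hs : s * nIdx A + 1 = Nat.card A) (h : ∀ g ∈ conjUnion A, pn t g = Nat.card A)
    [DecidablePred (· ∈ conjUnion A)] :
    ∑ g ∈ univ.filter (· ∈ conjUnion A), pn t g = Nat.card G * s := by
  have h1 := hA.isTI.card_conjUnion
  have h2 : (conjUnion A).ncard = (univ.filter (· ∈ conjUnion A)).card := by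
    rw [← Set.ncard_coe_finset]; congr 1; ext; simp
  rw [Finset.sum_congr rfl fun g hg => h g (mem_filter.1 hg).2, sum_const, smul_eq_mul, ← h2]
  rw [Tits.card_normalizer_eq] at h1
  refine Nat.eq_of_mul_eq_mul_right (m := nIdx A) (Nat.pos_of_ne_zero Subgroup.index_ne_zero_of_finite) ?_
  rw [mul_assoc, mul_comm (Nat.card A), h1, mul_assoc, ← hs]
  rfl

namespace Dat

variable (D : Dat A₁ A₂ A₃)
include D

theorem odd₁ : Odd (Nat.card A₁) := odd_card D.s₁ (by rw [D.e₁])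
theorem odd₂ : Odd (Nat.card A₂) := odd_card D.s₂ (by rw [D.e₂]; norm_num)
theorem odd₃ : Odd (Nat.card A₃) := D.swap.odd₂

theorem notMem₁ {t : G} (ht : t * t = 1) : t ∉ conjUnion A₁ := fun h =>
  D.s₁.mem_conjUnion_iff.1 h ((Nat.coprime_two_left.2 D.odd₁).coprime_dvd_left
    (orderOf_dvd_of_pow_eq_one (by rw [pow_two, ht])))

theorem formula {t : G} (ht : t * t = 1) {d τ : ℤ} (hd : (D.ξ : G → ℂ) 1 = d) (hτ : (D.ξ : G → ℂ) t = τ)
    {k : ℕ} (hk : ∀ g ∈ conjUnion A₁, pn t g = k) : (Nat.card G : ℤ) * k * ((d + D.δ) * d) =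
      (Subgroup.centralizer ({t} : Set G)).index ^ 2 * (d - τ) ^ 2 := by
  have h1 := D.f₁.const _ (pn_cf t) k fun g hg => by rw [hk g hg]
  have h2 := card_mul_classInner D.α₁ fun g => (pn t g : ℂ)
  have h3 : ∀ g, D.α₁ g * conj (pn t g : ℂ) = (fun _ => (1 : ℂ)) g * pn t g +
      D.δ * ((D.ξ : G → ℂ) g * pn t g) - D.δ * ((D.X : G → ℂ) g * pn t g) := fun g => by
    rw [D.eq, map_natCast]; ring
  rw [h1, Finset.sum_congr rfl fun g _ => h3 g, sum_sub_distrib, sum_add_distrib,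
    sum_irr_pn t isIrr_one, ← Finset.mul_sum, ← Finset.mul_sum, sum_irr_pn t D.ξ.2, sum_irr_pn t D.X.2,
    D.X_off D.hX (D.notMem₁ ht), map_natCast] at h2
  have h4 := irr_one_ne_zero D.ξ.2
  have h5 := irr_one_ne_zero D.X.2
  rw [D.X_off D.hX one_not_mem_conjUnion] at h2 h5
  rw [hd] at h2 h4 h5
  rw [hτ] at h2
  have h6 : (D.δ : ℂ) * D.δ = 1 := by exact_mod_cast D.δ_sq
  field_simp at h2
  apply Int.cast_injective (α := ℂ)
  push_cast
  linear_combination h2 + ((Subgroup.centralizer ({t} : Set G)).index : ℂ) ^ 2 *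
    ((τ : ℂ) ^ 2 - 2 * d * τ - d * D.δ) * h6

variable [IsSimpleGroup G]

theorem exists_conj_mem {t : G} (ht : t * t = 1) (ht1 : t ≠ 1) :
    ∃ z ∈ Subgroup.normalizer (A₁ : Set G), IsConj z t := by
  by_contra hh
  push Not at hh
  obtain ⟨v, hv, -⟩ := exists_ival ht
  obtain ⟨w, hw, -⟩ := exists_ival (one_mul (1 : G))
  have h1 := D.formula ht (hw _) (hv _) fun g hg => pn_eq_zero D.s₁ ht hh hg
  have h2 := lt_deg D.hξ1 ht ht1 (hw _) (hv _)
  have h3 : (0 : ℤ) < (Subgroup.centralizer ({t} : Set G)).index := by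
    exact_mod_cast Nat.pos_of_ne_zero Subgroup.index_ne_zero_of_finite
  have := mul_pos (pow_pos h3 2) (pow_pos (sub_pos.2 h2) 2)
  rw [← h1] at this
  simp at this

theorem isConj {t s : G} (ht : t * t = 1) (ht1 : t ≠ 1) (hs : s * s = 1) (hs1 : s ≠ 1) : IsConj t s := by
  have sq : ∀ {w u : G}, IsConj w u → u * u = 1 → u ≠ 1 → w * w = 1 ∧ w ≠ 1 := fun hw h h' => by
    obtain ⟨c, rfl⟩ := isConj_iff.1 hw.symm
    exact ⟨by rw [conj_mul, h]; simp, by simpa using h'⟩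
  obtain ⟨z, hz, e⟩ := D.exists_conj_mem ht ht1
  obtain ⟨y, hy, e'⟩ := D.exists_conj_mem hs hs1
  obtain ⟨z1, z2⟩ := sq e ht ht1
  exact e.symm.trans ((isConj_of_mul_mem D.s₁ D.odd₁ hz z1 z2
    ((involution_iff D.s₁ D.odd₁ hz z1 z2).1 ⟨hy, sq e' hs hs1⟩)).trans e')

theorem pn_eq_card {A : Subgroup G} (hA : SelfCent A) (he : 2 ∣ nIdx A) {t : G} (ht : t * t = 1)
    (ht1 : t ≠ 1) {g : G} (hg : g ∈ conjUnion A) : pn t g = Nat.card A := by
  obtain ⟨z, hz, z1, z2⟩ := exists_invol he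
  exact pn_of_mem hA (odd_card hA he) hz z1 z2 (D.isConj z1 z2 ht ht1) hg

theorem T_bound {t : G} (ht : t * t = 1) (ht1 : t ≠ 1) :
    (D.E₁.card + D.E₂.card + D.E₃.card) * Nat.card (Subgroup.centralizer ({t} : Set G)) ^ 2 ≤ Nat.card G := by
  classical
  have h1 := sum_pn_conjUnion D.s₁ D.f₁.card fun g => D.pn_eq_card D.s₁ (by rw [D.e₁]) ht ht1
  have h2 := sum_pn_conjUnion D.s₂ D.f₂.card fun g => D.pn_eq_card D.s₂ (by rw [D.e₂]; norm_num) ht ht1
  have h3 := sum_pn_conjUnion D.s₃ D.f₃.card fun g => D.pn_eq_card D.s₃ (by rw [D.e₃]; norm_num) ht ht1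
  have hd : ∀ {A B : Subgroup G}, Disjoint (conjUnion A) (conjUnion B) →
      Disjoint (univ.filter (· ∈ conjUnion A)) (univ.filter (· ∈ conjUnion B)) := fun h =>
    disjoint_filter.2 fun _ _ e => Set.disjoint_left.1 h e
  have h4 := sum_le_sum_of_subset (f := pn t) (subset_univ (univ.filter (· ∈ conjUnion A₁) ∪
    univ.filter (· ∈ conjUnion A₂) ∪ univ.filter (· ∈ conjUnion A₃)))
  rw [sum_union (disjoint_union_left.2 ⟨hd D.d₁₃, hd D.d₂₃⟩), sum_union (hd D.d₁₂), h1, h2, h3,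
    sum_pn_eq] at h4
  have h5 := (Subgroup.centralizer ({t} : Set G)).card_mul_index
  refine Nat.le_of_mul_le_mul_left ?_ (Nat.card_pos (α := G))
  calc _ = (Nat.card G * D.E₁.card + Nat.card G * D.E₂.card + Nat.card G * D.E₃.card) *
        Nat.card (Subgroup.centralizer ({t} : Set G)) ^ 2 := by ring
    _ ≤ _ := Nat.mul_le_mul_right _ h4
    _ = _ := by rw [← mul_pow, mul_comm, h5, pow_two]

theorem dih {A : Subgroup G} (hA : SelfCent A) (he : 2 ∣ nIdx A) {t : G} (ht : t * t = 1)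
    (ht1 : t ≠ 1) {χ : IrrCharacter G} (h0 : ∀ g ∈ conjUnion A, (χ : G → ℂ) g = (0 : ℤ)) {d τ : ℤ}
    (hd : (χ : G → ℂ) 1 = d) (hτ : (χ : G → ℂ) t = τ) : (Nat.card A : ℤ) ∣ d ∧ Nat.card A * τ ≤ d := by
  obtain ⟨z, hz, z1, z2⟩ := exists_invol he
  exact ⟨by simpa using dvd_sub_of_const (irr_isCharacter χ) hd h0,
    dih_bound hA (odd_card hA he) hz z1 z2 (irr_isCharacter χ) (by simpa using h0) hd
      ((classFun_eq_of_isConj (irr_isClassFunction χ) (D.isConj z1 z2 ht ht1)).trans hτ)⟩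

omit [IsSimpleGroup G] in
theorem exists_m : ∃ m : ℕ, Nat.card G = Nat.card A₁ * Nat.card A₂ * Nat.card A₃ * m ∧
    m.Coprime (Nat.card A₁ * Nat.card A₂ * Nat.card A₃) := by
  obtain ⟨m, hm⟩ : Nat.card A₁ * Nat.card A₂ * Nat.card A₃ ∣ Nat.card G :=
    (D.k₁₃.mul_left D.k₂₃).mul_dvd_of_dvd_of_dvd (D.k₁₂.mul_dvd_of_dvd_of_dvd
      A₁.card_subgroup_dvd_card A₂.card_subgroup_dvd_card) A₃.card_subgroup_dvd_card
  have key : ∀ {A : Subgroup G}, SelfCent A → ∀ c, Nat.card G = Nat.card A * (c * m) →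
      m.Coprime (Nat.card A) := fun {A} hA c h => by
    have : A.index = c * m := Nat.eq_of_mul_eq_mul_left Nat.card_pos (A.card_mul_index.trans h)
    exact (hA.coprime_card_index.coprime_dvd_right (this ▸ Dvd.intro_left c rfl)).symm
  exact ⟨m, hm, ((key D.s₁ (Nat.card A₂ * Nat.card A₃) (by rw [hm]; ring)).mul_right
    (key D.s₂ (Nat.card A₁ * Nat.card A₃) (by rw [hm]; ring))).mul_right
    (key D.s₃ (Nat.card A₁ * Nat.card A₂) (by rw [hm]; ring))⟩

omit [IsSimpleGroup G] in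
theorem coprime_cent {t : G} (ht : t * t = 1) (ht1 : t ≠ 1) : (Nat.card (Subgroup.centralizer ({t} : Set G))).Coprime
    (Nat.card A₁ * Nat.card A₂ * Nat.card A₃) := by
  have key : ∀ {A : Subgroup G}, SelfCent A → Odd (Nat.card A) →
      (Nat.card (Subgroup.centralizer ({t} : Set G))).Coprime (Nat.card A) := fun {A} hA ho => by
    refine Nat.coprime_of_dvd fun p hp h1 h2 => ?_
    have : Fact p.Prime := ⟨hp⟩
    obtain ⟨x, hx⟩ := exists_prime_orderOf_dvd_card' p h1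
    have hx' : orderOf (x : G) = p := by rw [Subgroup.orderOf_coe, hx]
    obtain ⟨g, hg⟩ := hA.exists_conj_mem (x := x) (by
      rw [hx', hp.coprime_iff_not_dvd]; exact not_not.2 h2)
    refine notMem_of_invol ho (z := g * t * g⁻¹) (by rw [conj_mul, ht]; simp) (by simpa using ht1)
      ((hA.mem_iff hg fun e => hp.ne_one ?_).2 ?_)
    · rw [← hx', orderOf_eq_one_iff]; simpa using e
    · rw [conj_mul, conj_mul, Subgroup.mem_centralizer_singleton_iff.1 x.2]
  exact ((key D.s₁ D.odd₁).mul_right (key D.s₂ D.odd₂)).mul_right (key D.s₃ D.odd₃)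

end Dat

end CfsgLib.SSC3
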