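import Mathlib
import Cfsg.Agent.Lib.SSC3.Num
import Cfsg.Agent.Lib.CIT.Simple
import Cfsg.Agent.Lib.CIT.AppModel

/-!
# Simple groups with strongly self-centralising subgroups of type `(2, 4, 4)` and small order
-/

set_option autoImplicit false

namespace CfsgLib.SSC3

open Cfsg CfsgLib.Char CfsgLib.CharDeep CfsgLib.Sz CfsgLib.CIT CfsgLib.CIT.App ComplexConjugate Finset

variable {G : Type*} [Group G] [Fintype G] {A₁ A₂ A₃ : Subgroup G}

namespace Dat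

variable (D : Dat A₁ A₂ A₃)
include D

theorem n₁_eq : (Nat.card A₁ : ℤ) = 2 * D.E₁.card + 1 := by
  have := D.f₁.card
  rw [D.e₁] at this
  omega

theorem n₂_eq : (Nat.card A₂ : ℤ) = 4 * D.E₂.card + 1 := by
  have := D.f₂.card
  rw [D.e₂] at this
  omega

theorem n₃_eq : (Nat.card A₃ : ℤ) = 4 * D.E₃.card + 1 := D.swap.n₂_eq

theorem le_mul : 117 ≤ Nat.card A₂ * Nat.card A₃ := by
  have h1 := D.n₂_eq
  have h2 := D.n₃_eq
  have h3 := D.f₂.two
  have h4 := D.f₃.two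
  have h5 : Nat.card A₂ ≠ Nat.card A₃ := fun e => by
    have := D.k₂₃
    rw [e, Nat.coprime_self] at this
    omega
  rcases (show (9 ≤ Nat.card A₂ ∧ 13 ≤ Nat.card A₃) ∨ (13 ≤ Nat.card A₂ ∧ 9 ≤ Nat.card A₃) by omega) with
    h | h <;> exact le_trans (by norm_num) (Nat.mul_le_mul h.1 h.2)

variable [IsSimpleGroup G] (hord : Nat.card G ≤ 3 * Nat.card A₁ ^ 2 * Nat.card A₂ ^ 2 * Nat.card A₃ ^ 2)
include hord

theorem numeric {t : G} (ht : t * t = 1) (ht1 : t ≠ 1)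
    (hodd : Odd (Subgroup.centralizer ({t} : Set G)).index) {d : ℤ} (hd : (D.ξ : G → ℂ) 1 = d) :
    D.c₂ D.X = 0 ∧ D.c₃ D.X = 0 ∧ (Nat.card G : ℤ) = Nat.card A₁ * ((d + D.δ) * d) ∧
      (Nat.card (Subgroup.centralizer ({t} : Set G)) : ℤ) = d ∧
      (Nat.card A₂ * Nat.card A₃ : ℤ) ∣ d + D.δ := by
  obtain ⟨v, hv, hcol⟩ := D.sq_le ht (D.notMem₁ ht)
  obtain ⟨m, hm, hmc⟩ := D.exists_m
  have hX1 : (D.X : G → ℂ) 1 = (d + D.δ : ℤ) := by
    rw [D.X_off D.hX one_not_mem_conjUnion, hd]; simp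
  have hXt : (D.X : G → ℂ) t = (v D.ξ + D.δ : ℤ) := by
    rw [D.X_off D.hX (D.notMem₁ ht), hv]; simp
  obtain ⟨p1, d1⟩ := deg_pos hd
  obtain ⟨p2, d2⟩ := deg_pos hX1
  have hD := sub_pos.2 (lt_deg D.hξ1 ht ht1 hd (hv _))
  have h3 : (Nat.card A₁ : ℤ) ∣ d - D.δ := dvd_sub_of_const (irr_isCharacter _) hd fun g hg => by
    rw [D.f₁.val _ D.hξ g hg, D.cξ]
  have hKi : (Nat.card G : ℤ) = Nat.card (Subgroup.centralizer ({t} : Set G)) *
      (Subgroup.centralizer ({t} : Set G)).index := by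
    exact_mod_cast (Subgroup.card_mul_index _).symm
  have hG0 : (0 : ℤ) < Nat.card G := by exact_mod_cast Nat.card_pos
  have t1 : (2 : ℤ) ≤ D.E₁.card := by exact_mod_cast D.f₁.two
  have t2 : (2 : ℤ) ≤ D.E₂.card := by exact_mod_cast D.f₂.two
  have t3 : (2 : ℤ) ≤ D.E₃.card := by exact_mod_cast D.f₃.two
  obtain ⟨u, hu, hg, hK, hu1, hc⟩ := arith_basic (K := Nat.card (Subgroup.centralizer ({t} : Set G)))
    (c := A₁.index) D.n₁_eq t1 D.hδ p1 p2 (by exact_mod_cast Nat.card_pos) hD d1 d2 h3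
    (by exact_mod_cast A₁.card_mul_index.symm) (by simpa [D.e₁] using dvd_index_sub D.s₁) (by
      have := D.formula ht hd (hv _) fun g => D.pn_eq_card D.s₁ (by rw [D.e₁]) ht ht1
      apply mul_left_cancel₀ hG0.ne'
      linear_combination (Nat.card (Subgroup.centralizer ({t} : Set G)) : ℤ) ^ 2 * this -
        (d - v D.ξ) ^ 2 * (Nat.card G + Nat.card (Subgroup.centralizer ({t} : Set G)) *
          (Subgroup.centralizer ({t} : Set G)).index) * hKi)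
  have z1 : ∀ c, Odd c → (Nat.card G : ℤ) = d * c → v D.ξ = 0 := fun c hc h =>
    eq_zero_of_odd D.ξ.2 hd hc h ht ht1 (hv _)
  have z2 : ∀ c, Odd c → (Nat.card G : ℤ) = (d + D.δ) * c → v D.ξ + D.δ = 0 := fun c hc h =>
    eq_zero_of_odd D.X.2 hX1 hc h ht ht1 hXt
  have hKm : (Nat.card (Subgroup.centralizer ({t} : Set G)) : ℤ) ∣ m := by
    exact_mod_cast (D.coprime_cent ht ht1).dvd_of_dvd_mul_left (hm ▸ Subgroup.card_subgroup_dvd_card _)
  have hm3 : (m : ℤ) ≤ 3 * (Nat.card A₁ * Nat.card A₂ * Nat.card A₃) := by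
    have : m ≤ 3 * (Nat.card A₁ * Nat.card A₂ * Nat.card A₃) :=
      Nat.le_of_mul_le_mul_left (c := Nat.card A₁ * Nat.card A₂ * Nat.card A₃)
        (by rw [← hm]; refine hord.trans_eq ?_; ring)
        (mul_pos (mul_pos Nat.card_pos Nat.card_pos) Nat.card_pos)
    exact_mod_cast this
  have hm' : (Nat.card G : ℤ) = Nat.card A₁ * Nat.card A₂ * Nat.card A₃ * m := by exact_mod_cast hm
  have m2 : IsCoprime (m : ℤ) (Nat.card A₂) := Nat.isCoprime_iff_coprime.2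
    (Nat.Coprime.coprime_mul_left_right (Nat.Coprime.coprime_mul_right_right hmc))
  have m3 : IsCoprime (m : ℤ) (Nat.card A₃) := Nat.isCoprime_iff_coprime.2
    (Nat.Coprime.coprime_mul_left_right hmc)
  have hT : (D.E₁.card + D.E₂.card + D.E₃.card : ℤ) *
      (Nat.card (Subgroup.centralizer ({t} : Set G)) : ℤ) ^ 2 ≤ Nat.card G := by
    exact_mod_cast D.T_bound ht ht1
  have e2 : 2 ∣ nIdx A₂ := by rw [D.e₂]; norm_num
  have e3 : 2 ∣ nIdx A₃ := by rw [D.e₃]; norm_num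
  have x2 := fun h : D.c₂ D.X = 0 => D.dih D.s₂ e2 ht ht1
    (fun g hg => h ▸ D.f₂.val _ (D.X_notMem₂ D.hX) g hg) hX1 hXt
  have x3 := fun h : D.c₃ D.X = 0 => D.dih D.s₃ e3 ht ht1
    (fun g hg => h ▸ D.f₃.val _ (D.swap.X_notMem₂ D.hX) g hg) hX1 hXt
  have y2 := fun h : D.c₂ D.X = D.δ => D.dih D.s₂ e2 ht ht1 (fun g hg => by
    rw [D.f₂.val _ D.ξ_notMem₂ g hg, D.cξ₂, h, sub_self]) hd (hv _)
  have y3 := fun h : D.c₃ D.X = D.δ => D.dih D.s₃ e3 ht ht1 (fun g hg => by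
    rw [D.f₃.val _ D.ξ_notMem₃ g hg, D.cξ₃, h, sub_self]) hd (hv _)
  have k12 := Nat.isCoprime_iff_coprime.2 D.k₁₂
  have k13 := Nat.isCoprime_iff_coprime.2 D.k₁₃
  have k23 := Nat.isCoprime_iff_coprime.2 D.k₂₃
  rcases D.c₂X with h | ⟨h, h'⟩ <;> rcases D.c₃X with k | ⟨k, k'⟩
  · obtain ⟨y, hy⟩ := k23.mul_dvd (x2 h).1 (x3 k).1
    have hs : (117 : ℤ) ≤ Nat.card A₂ * Nat.card A₃ := by exact_mod_cast D.le_mul
    have hy0 : 0 < y := (pos_iff_pos_of_mul_pos (hy ▸ p2)).1 (by omega)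
    have hR := sum_nonneg (s := D.R) (f := fun χ => v χ * v χ) fun _ _ => mul_self_nonneg _
    have := arith_gen D.n₁_eq t1 hs D.hδ p1 hD (by rw [hm']; ring) (by rwa [mul_assoc] at hm3) hKm hu hg hK
      hu1 hc h3 hy hy0 ⟨_, by exact_mod_cast hodd, hKi⟩ (by nlinarith [sq_nonneg (v D.ξ)])
    rw [this, one_pow, mul_one] at hg
    rw [this, one_mul] at hK
    refine ⟨h, k, hg, ?_, y, hy⟩
    rcases arith_dz D.n₁_eq D.hδ (u := 1) (by rw [hg]; ring) odd_one z1 z2 with e | e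
    · rw [hK, e, sub_zero]
    · rw [hK, show d - v D.ξ = d + D.δ by omega] at hKm
      have := m2.isUnit_of_dvd' ((x2 h).1.trans hKm) dvd_rfl
      rw [Int.isUnit_iff, D.n₂_eq] at this
      omega
  · exact (arith_anom D.n₁_eq t1 (by exact_mod_cast k') D.n₃_eq D.n₂_eq t3 t2 k23.symm k13 D.hδ p1 p2 hD
      (by rw [hm']; ring) (by rwa [mul_right_comm]) m3 m2 hKm hu hg hK hu1 h3 (y3 k).1 (x2 h).1 (y3 k).2
      (x2 h).2 (by rwa [add_right_comm]) z1 z2).elim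
  · exact (arith_anom D.n₁_eq t1 (by exact_mod_cast h') D.n₂_eq D.n₃_eq t2 t3 k23 k12 D.hδ p1 p2 hD
      hm' hm3 m2 m3 hKm hu hg hK hu1 h3 (y2 h).1 (x3 k).1 (y2 h).2 (x3 k).2 hT z1 z2).elim
  · exact (D.not_both h k).elim

theorem isCIT : IsCIT G := by
  classical
  refine isCIT_of_forall fun r hr hr2 ⟨z, hz⟩ => ?_
  obtain ⟨t, ht, ht1, hodd⟩ := exists_central_invol (G := G)
    ((Dvd.intro r rfl).trans (hz ▸ orderOf_dvd_natCard z))
  obtain ⟨w, hw, hsq⟩ := D.sq_le (one_mul 1) one_not_mem_conjUnion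
  obtain ⟨h, k, hg, hK, y, hy⟩ := D.numeric hord ht ht1 hodd (hw _)
  set N := Nat.card A₁ * Nat.card A₂ * Nat.card A₃ with hN
  have hNo : Odd N := (D.odd₁.mul D.odd₂).mul D.odd₃
  have hN0 : (0 : ℤ) < N := by exact_mod_cast hNo.pos
  have hG : Nat.card (Subgroup.centralizer ({1} : Set G)) = Nat.card G := by
    rw [show Subgroup.centralizer ({1} : Set G) = ⊤ by ext; simp [Subgroup.mem_centralizer_iff],
      Subgroup.card_top]
  -- the characters vanishing on the three subgroups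
  set Θ := D.R.filter fun χ => D.c₂ χ = 0 ∧ D.c₃ χ = 0 with hΘ
  have hR : D.R.card ≤ Θ.card + 2 := by
    rw [← card_filter_add_card_filter_not (s := D.R) fun χ => D.c₂ χ = 0 ∧ D.c₃ χ = 0]
    exact Nat.add_le_add_left (by convert D.card_H h k) _
  have hΘ1 : (Θ.card : ℤ) * N ^ 2 ≤ ∑ χ ∈ D.R, w χ * w χ := by
    refine le_trans ?_ (sum_le_sum_of_subset_of_nonneg (s := Θ) (f := fun χ => w χ * w χ) (filter_subset _ _)
      fun _ _ _ => mul_self_nonneg _)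
    rw [← nsmul_eq_mul]
    refine card_nsmul_le_sum _ _ _ fun χ hχ => ?_
    obtain ⟨h1, h2, h3⟩ := mem_filter.1 hχ
    obtain ⟨r1, r2, r3, r4, r5⟩ := D.mem_R.1 h1
    have a1 := dvd_sub_of_const (irr_isCharacter χ) (hw χ) (D.f₁.val χ r3)
    have a2 := dvd_sub_of_const (irr_isCharacter χ) (hw χ) (D.f₂.val χ r4)
    have a3 := dvd_sub_of_const (irr_isCharacter χ) (hw χ) (D.f₃.val χ r5)
    rw [D.zero χ r1 r2 fun e => r3 (e ▸ D.hX), sub_zero] at a1
    rw [h2, sub_zero] at a2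
    rw [h3, sub_zero] at a3
    have : (N : ℤ) ≤ w χ := Int.le_of_dvd (deg_pos (hw χ)).1 (by
      rw [hN]; push_cast
      exact ((Nat.isCoprime_iff_coprime.2 D.k₁₃).mul_left (Nat.isCoprime_iff_coprime.2 D.k₂₃)).mul_dvd
        ((Nat.isCoprime_iff_coprime.2 D.k₁₂).mul_dvd a1 a2) a3)
    rw [pow_two]
    exact mul_self_le_mul_self hN0.le this
  rw [hG] at hsq
  have t1 : (2 : ℤ) ≤ D.E₁.card := by exact_mod_cast D.f₁.two
  have p1 := (deg_pos (hw D.ξ)).1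
  have hk1 : (Θ.card : ℤ) ≤ 1 := arith_k (N := N) D.n₁_eq t1 D.hδ p1
    (dvd_sub_of_const (irr_isCharacter _) (hw _) fun g hg => by rw [D.f₁.val _ D.hξ g hg, D.cξ]) hg
    (by rw [hN]; exact_mod_cast hord.trans_eq (by ring)) (by linarith)
  -- the orders
  have hzr : orderOf (z ^ r) = 2 := by
    rw [orderOf_pow_of_dvd hr.ne_zero (by rw [hz]; exact Dvd.intro_left 2 rfl), hz,
      Nat.mul_div_cancel _ hr.pos]
  obtain ⟨z1, z2⟩ := orderOf_eq_two_iff.1 hzr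
  have hrK : 2 * r ∣ Nat.card (Subgroup.centralizer ({t} : Set G)) := by
    rw [card_centralizer_eq_of_isConj (D.isConj ht ht1 z1 z2), ← hz]
    exact Subgroup.orderOf_dvd_natCard _ (Subgroup.mem_centralizer_singleton_iff.2
      (Commute.self_pow z r).eq)
  have hrN : (2 * r).Coprime N := (D.coprime_cent ht ht1).coprime_dvd_left hrK
  have hz' : HasOrd G (2 * r) := ⟨z, hz⟩
  have hr4 : r ≠ 4 := by rintro rfl; norm_num at hr
  have hr1 := hr.two_le
  have hO : ∀ k ∈ ({1, 2, 4, r, 2 * r} : Finset ℕ), (∃ g : G, orderOf g = k) ∧ k.Coprime N := by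
    simp only [mem_insert, mem_singleton]
    rintro _ (rfl | rfl | rfl | rfl | rfl)
    · exact ⟨⟨1, orderOf_one⟩, Nat.coprime_one_left _⟩
    · exact ⟨⟨_, hzr⟩, Nat.coprime_two_left.2 hNo⟩
    · exact ⟨exists_four D.s₂ D.odd₂ (by rw [D.e₂]), (Nat.coprime_two_left.2 hNo).pow_left 2⟩
    · exact ⟨hz'.of_dvd (Dvd.intro_left 2 rfl), hrN.coprime_dvd_left (Dvd.intro_left 2 rfl)⟩
    · exact ⟨hz', hrN⟩
  have hc : ({1, 2, 4, r, 2 * r} : Finset ℕ).card = 5 := by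
    rw [card_insert_of_notMem, card_insert_of_notMem, card_insert_of_notMem, card_pair (by omega)] <;>
      simp only [mem_insert, mem_singleton] <;> omega
  have h5 := D.card_le _ hO
  have hs : (117 : ℤ) ≤ Nat.card A₂ * Nat.card A₃ := by exact_mod_cast D.le_mul
  have hgN : (Nat.card G : ℤ) = N * (y * w D.ξ) := by rw [hg, hy, hN]; push_cast; ring
  have hy1 : y.natAbs ≠ 1 := fun e => by
    have e1 : (1 : ℤ) ≤ Θ.card := by omega
    have e2 : y * w D.ξ ≤ w D.ξ := mul_le_of_le_one_left p1.le (by omega)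
    have e3 : w D.ξ + D.δ ≤ Nat.card A₂ * Nat.card A₃ := by
      rw [hy]; exact mul_le_of_le_one_right (by omega) (by omega)
    have e4 : (Nat.card A₂ * Nat.card A₃ : ℤ) * 2 ≤ N := by
      rw [hN]; push_cast
      have := D.n₁_eq
      nlinarith
    have e5 : y * w D.ξ ≤ N := by have := D.hδ; omega
    nlinarith [mul_le_mul_of_nonneg_left e5 hN0.le, mul_le_mul_of_nonneg_right e1 (sq_nonneg (N : ℤ)),
      sq_nonneg (w D.ξ), mul_nonneg (show (0 : ℤ) ≤ D.E₁.card by omega) (sq_nonneg (w D.ξ + D.δ))]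
  obtain ⟨s, hs1, hs2⟩ := Nat.exists_prime_and_dvd hy1
  have hsy : (s : ℤ) ∣ y := Int.natCast_dvd.2 hs2
  have hsK : ¬ s ∣ 2 * r := fun e => by
    have e1 : (s : ℤ) ∣ w D.ξ := hK ▸ Int.natCast_dvd_natCast.2 (e.trans hrK)
    have e2 : (s : ℤ) ∣ D.δ := (dvd_add_right e1).1 (hy ▸ hsy.mul_left _)
    have := hs1.two_le
    rcases D.hδ with e3 | e3 <;> rw [e3] at e2
    · have := Int.le_of_dvd one_pos e2
      omega
    · have := Int.le_of_dvd one_pos (dvd_neg.1 e2)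
      omega
  obtain ⟨m, hm, hmc⟩ := D.exists_m
  have hsm : s ∣ m := by
    have : (m : ℤ) = y * w D.ξ := mul_left_cancel₀ hN0.ne' (by rw [← hgN, hm]; push_cast; rfl)
    exact Int.natCast_dvd_natCast.1 (this ▸ hsy.mul_right _)
  have h6 := D.card_le (insert s {1, 2, 4, r, 2 * r}) fun k hk => by
    rcases mem_insert.1 hk with rfl | hk
    · exact ⟨hasOrd_of_prime_dvd hs1 (hm ▸ hsm.mul_left _), hmc.coprime_dvd_left hsm⟩
    · exact hO k hk
  rw [card_insert_of_notMem, hc] at h6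
  · omega
  · simp only [mem_insert, mem_singleton]
    rintro (rfl | rfl | rfl | rfl | rfl)
    · exact hs1.ne_one rfl
    · exact hsK (Dvd.intro r rfl)
    · norm_num at hs1
    · exact hsK (Dvd.intro_left 2 rfl)
    · exact hsK dvd_rfl

omit hord [IsSimpleGroup G] in
theorem not_hasOrd {A B : Subgroup G} (hA : SelfCent A) (h : (Nat.card A).Coprime (Nat.card B)) {p q : ℕ}
    (hp : p.Prime) (hq : q.Prime) (h1 : p ∣ Nat.card A) (h2 : q ∣ Nat.card B) : p ≠ q ∧ ¬ HasOrd G (p * q) := by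
  have key : ¬ q ∣ Nat.card A := fun e => hq.ne_one (Nat.eq_one_of_dvd_coprimes h e h2)
  refine ⟨fun e => key (e ▸ h1), fun ⟨x, hx⟩ => key ((Dvd.intro_left p hx.symm).trans
    (SelfCent.orderOf_dvd_of_mem_conjUnion (hA.mem_conjUnion_iff.2 fun e => hp.ne_one ?_)))⟩
  exact Nat.eq_one_of_dvd_coprimes e (Dvd.intro q hx.symm) h1

theorem isoSuzuki (hG : ¬ IsMulCommutative G) : Lie.IsoSuzuki G := by
  have hNo : Odd (Nat.card A₁ * Nat.card A₂ * Nat.card A₃) := (D.odd₁.mul D.odd₂).mul D.odd₃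
  obtain ⟨m, hm, -⟩ := D.exists_m
  have hN : 585 ≤ Nat.card A₁ * Nat.card A₂ * Nat.card A₃ := by
    have := D.n₁_eq
    have := D.f₁.two
    rw [mul_assoc]
    exact Nat.mul_le_mul (show 5 ≤ _ by omega) D.le_mul
  have key : ∀ a b, Nat.card G = 2 ^ a * b → 0 < b → 585 ≤ b := fun a b h hb =>
    hN.trans (Nat.le_of_dvd hb (((Nat.coprime_two_right.2 hNo).pow_right a).dvd_of_dvd_mul_left
      (h ▸ Dvd.intro m hm.symm)))
  rcases cit_simple G hG (D.isCIT hord) with h | h | h | h | h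
  · exact absurd (l2even_even h (exists_four D.s₂ D.odd₂ (by rw [D.e₂])) (by decide)) (by decide)
  · exact h
  · exact absurd (key 3 45 (l29_data h).1 (by norm_num)) (by norm_num)
  · obtain ⟨p, k, hp, h7, hk, -, ho, -⟩ := l2prime_data h
    obtain ⟨c, hc1, hc2⟩ : ∃ c, HasOrd G c ∧ ∀ q, q.Prime → Odd q → HasOrd G q → q = p ∨ q ∣ c := by
      have h2 : ∀ q a, q.Prime → Odd q → q ∣ a / 2 → a = 2 ^ k → False := fun q a hq h1 h2 h3 => by
        have : Odd p := hp.odd_of_ne_two (by omega)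
        have h4 : a / 2 ∣ a := Nat.div_dvd_of_dvd (by
          rw [h3]; refine dvd_pow_self 2 ?_
          rintro rfl
          omega)
        have := (Nat.prime_dvd_prime_iff_eq hq Nat.prime_two).1 (hq.dvd_of_dvd_pow (h3 ▸ h2.trans h4))
        rw [this] at h1
        exact absurd h1 (by decide)
      rcases hk with hk | hk
      · refine ⟨_, (ho _).2 (Or.inr (Or.inr dvd_rfl)), fun q hq h1 h3 => ?_⟩
        rcases (ho q).1 h3 with h4 | h4 | h4
        exacts [Or.inl ((Nat.prime_dvd_prime_iff_eq hq hp).1 h4), (h2 q _ hq h1 h4 (by omega)).elim, Or.inr h4]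
      · refine ⟨_, (ho _).2 (Or.inr (Or.inl dvd_rfl)), fun q hq h1 h3 => ?_⟩
        rcases (ho q).1 h3 with h4 | h4 | h4
        exacts [Or.inl ((Nat.prime_dvd_prime_iff_eq hq hp).1 h4), Or.inr h4, (h2 q _ hq h1 h4 hk).elim]
    have ex : ∀ {A : Subgroup G}, SelfCent A → Odd (Nat.card A) →
        ∃ q, q.Prime ∧ q ∣ Nat.card A ∧ (q = p ∨ q ∣ c) := fun {A} hA ho => by
      obtain ⟨q, hq, h1⟩ := Nat.exists_prime_and_dvd (show Nat.card A ≠ 1 by have := hA.two_le_card; omega)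
      exact ⟨q, hq, h1, hc2 q hq (ho.of_dvd_nat h1)
        (hasOrd_of_prime_dvd hq (h1.trans A.card_subgroup_dvd_card))⟩
    obtain ⟨q₁, a1, b1, c1⟩ := ex D.s₁ D.odd₁
    obtain ⟨q₂, a2, b2, c2⟩ := ex D.s₂ D.odd₂
    obtain ⟨q₃, a3, b3, c3⟩ := ex D.s₃ D.odd₃
    have f : ∀ {q q'}, q.Prime → q'.Prime → q ≠ q' ∧ ¬ HasOrd G (q * q') → ¬ (q ∣ c ∧ q' ∣ c) :=
      fun hq hq' h e => h.2 (hc1.of_dvd (((Nat.coprime_primes hq hq').2 h.1).mul_dvd_of_dvd_of_dvd e.1 e.2))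
    have n12 := D.not_hasOrd D.s₁ D.k₁₂ a1 a2 b1 b2
    have n13 := D.not_hasOrd D.s₁ D.k₁₃ a1 a3 b1 b3
    have n23 := D.not_hasOrd D.s₂ D.k₂₃ a2 a3 b2 b3
    exfalso
    rcases c1 with c1 | c1 <;> rcases c2 with c2 | c2
    · exact n12.1 (c1.trans c2.symm)
    · exact c3.elim (fun c3 => n13.1 (c1.trans c3.symm)) fun c3 => f a2 a3 n23 ⟨c2, c3⟩
    · exact c3.elim (fun c3 => n23.1 (c2.trans c3.symm)) fun c3 => f a1 a3 n13 ⟨c1, c3⟩
    · exact f a1 a2 n12 ⟨c1, c2⟩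
  · exact absurd (key 6 315 (l34_data h).1 (by norm_num)) (by norm_num)

end Dat

end CfsgLib.SSC3
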